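import Cfsg.Agent.H54.PQ.Frame
import Cfsg.Agent.H967.CopChev
import Cfsg.Agent.ChevalleyStructure.OrderFinal
import Cfsg.Agent.ChevalleyStructure.CardCombAll

/-!
# S4981, ORD-C: a field automorphism centralises a Sylow subgroup of a Chevalley group (helper417)

`cent_chev` : `σ` a field automorphism of `q`-power order of `D.group F`, `q` prime not dividing the order of `|Fx σ|` modulo
`p`: then `|D.group F|` and `|D.group (Fx σ)|` have the same `p`-part, and `σ` centralises a Sylow `p`-subgroup.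
-/

set_option autoImplicit false

namespace Cfsg.Agent.H417.PQ

open Subgroup Cfsg Cfsg.Lie Cfsg.Agent.H54.PQ Cfsg.Agent.H967.CopMat Cfsg.Agent.H967.CopChev
  Cfsg.Agent.ChevalleyStructure Cfsg.Agent.ChevalleyStructure.Elts

universe u v w

/-! ### arithmetic -/

theorem dvd_sub_one_iff {p a : ℕ} (ha : 1 ≤ a) : p ∣ a - 1 ↔ (a : ZMod p) = 1 := by
  rw [← ZMod.natCast_eq_zero_iff, Nat.cast_sub ha, Nat.cast_one, sub_eq_zero]

theorem fac_pow_sub_one {p q q₀ : ℕ} (hp : p.Prime) (hq : q.Prime) (hpq : p ≠ q) (h1 : 1 < q₀)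
    (hd : ¬ q ∣ orderOf (q₀ : ZMod p)) (j i : ℕ) (hi : i ≠ 0) :
    ((q₀ ^ q ^ j) ^ i - 1).factorization p = (q₀ ^ i - 1).factorization p := by
  set x := q₀ ^ i with hx
  have hx1 : 1 < x := Nat.one_lt_pow hi h1
  have hxm : (q₀ ^ q ^ j) ^ i = x ^ q ^ j := by rw [hx, ← pow_mul, ← pow_mul, mul_comm]
  rw [hxm]
  have hm0 : q ^ j ≠ 0 := pow_ne_zero _ hq.ne_zero
  by_cases h : p ∣ x - 1
  · have h2 : x ^ q ^ j - 1 = (∑ k ∈ Finset.range (q ^ j), x ^ k) * (x - 1) :=
      (geom_sum_mul_of_one_le hx1.le (q ^ j)).symm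
    have h3 : ¬ p ∣ ∑ k ∈ Finset.range (q ^ j), x ^ k := by
      intro h4
      rw [← ZMod.natCast_eq_zero_iff] at h4
      push_cast at h4
      rw [(dvd_sub_one_iff hx1.le).1 h] at h4
      simp only [one_pow, Finset.sum_const, Finset.card_range, nsmul_eq_mul, mul_one] at h4
      have h5 : p ∣ q ^ j := by
        rw [← ZMod.natCast_eq_zero_iff]
        exact_mod_cast h4
      exact hpq ((Nat.prime_dvd_prime_iff_eq hp hq).1 (hp.dvd_of_dvd_pow h5))
    have h4 : (∑ k ∈ Finset.range (q ^ j), x ^ k) ≠ 0 := fun h0 => h3 (h0 ▸ dvd_zero p)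
    rw [h2, Nat.factorization_mul h4 (by omega), Finsupp.add_apply, Nat.factorization_eq_zero_of_not_dvd h3, zero_add]
  · rw [Nat.factorization_eq_zero_of_not_dvd h, Nat.factorization_eq_zero_of_not_dvd]
    intro h2
    apply h
    rw [dvd_sub_one_iff (Nat.one_le_pow _ _ (by omega))] at h2
    rw [dvd_sub_one_iff hx1.le]
    have h3 : (q₀ : ZMod p) ^ (i * q ^ j) = 1 := by
      rw [hx] at h2
      push_cast at h2
      rw [pow_mul]
      exact h2
    have h4 : orderOf (q₀ : ZMod p) ∣ i := by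
      have h5 := orderOf_dvd_of_pow_eq_one h3
      refine Nat.Coprime.dvd_of_dvd_mul_right ?_ h5
      exact Nat.Coprime.pow_right j (Nat.Coprime.symm ((Nat.Prime.coprime_iff_not_dvd hq).2 hd))
    rw [hx]
    push_cast
    exact orderOf_dvd_iff_pow_eq_one.1 h4

/-! ### fixed subgroups -/

/-- `G₀ → G` injective, fixed by `f`, with the same `p`-part of the orders -/
theorem centSyl_of_fixed {p : ℕ} [hp : Fact p.Prime] {G : Type v} [Group G] [Finite G] {G₀ : Type w} [Group G₀]
    [Finite G₀] (j : G₀ →* G) (hj : Function.Injective j)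
    (h : (Nat.card G).factorization p = (Nat.card G₀).factorization p) (f : MulAut G) (hf : ∀ x, f (j x) = j x) :
    CentSyl p (Subgroup.zpowers f) := by
  obtain ⟨P₀⟩ : Nonempty (Sylow p G₀) := inferInstance
  have hc : Nat.card ((P₀ : Subgroup G₀).map j) = p ^ (Nat.card G).factorization p := by
    rw [Subgroup.card_map_of_injective hj, h]
    exact P₀.card_eq_multiplicity
  refine ⟨Sylow.ofCard _ hc, fun g hg x hx => ?_⟩
  have hx' : x ∈ (P₀ : Subgroup G₀).map j := hx
  obtain ⟨y, -, rfl⟩ := hx'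
  have h1 : Subgroup.zpowers f ≤ MulAction.stabilizer (MulAut G) (j y) := by
    rw [Subgroup.zpowers_le]
    exact hf y
  exact h1 hg

/-! ### the orders -/

theorem exists_formula {D : ChevalleyDatum} (hD : InList D) : ∃ (g m : ℕ) (degs : List ℕ), g ≠ 0 ∧
    (∀ k ∈ degs, k ≠ 0) ∧ ∀ (K : Type u) [Field K] [Fintype K],
      Nat.gcd g (Fintype.card K - 1) ^ m * Nat.card (D.group K) =
        Fintype.card K ^ (D.nroots / 2) * (degs.map fun k => Fintype.card K ^ k - 1).prod := by
  have hD' := hD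
  simp only [InList, List.mem_cons, List.not_mem_nil, or_false] at hD
  rcases hD with h | h | h | h | h | h | h <;> subst h
  · refine ⟨1, 1, [2, 6], one_ne_zero, by simp, fun K _ _ => ?_⟩
    rw [Nat.gcd_one_left, pow_one]
    exact OrderFinal.order_formula rfl chevG2 1 [2, 6] (by simp) hD' (CardCombAll.comb_of_mem hD') (by simp) rfl
  · refine ⟨2, 1, [2, 4], two_ne_zero, by simp, fun K _ _ => ?_⟩
    rw [pow_one]
    exact OrderFinal.order_formula rfl chevB2 _ [2, 4] (by simp) hD' (CardCombAll.comb_of_mem hD') (by simp) rfl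
  · refine ⟨2, 2, [2, 4, 4, 6], two_ne_zero, by simp, fun K _ _ => ?_⟩
    exact OrderFinal.order_formula rfl chevD4 _ [2, 4, 4, 6] (by simp) hD' (CardCombAll.comb_of_mem hD') (by simp) rfl
  · refine ⟨1, 1, [2, 6, 8, 12], one_ne_zero, by simp, fun K _ _ => ?_⟩
    rw [Nat.gcd_one_left, pow_one]
    exact OrderFinal.order_formula rfl chevF4 1 [2, 6, 8, 12] (by simp) hD' (CardCombAll.comb_of_mem hD') (by simp) rfl
  · refine ⟨3, 1, [2, 5, 6, 8, 9, 12], by norm_num, by simp, fun K _ _ => ?_⟩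
    rw [pow_one]
    exact OrderFinal.order_formula rfl chevE6 _ [2, 5, 6, 8, 9, 12] (by simp) hD' (CardCombAll.comb_of_mem hD')
      (by simp) rfl
  · refine ⟨2, 1, [2, 6, 8, 10, 12, 14, 18], two_ne_zero, by simp, fun K _ _ => ?_⟩
    rw [pow_one]
    exact OrderFinal.order_formula rfl chevE7 _ [2, 6, 8, 10, 12, 14, 18] (by simp) hD' (CardCombAll.comb_of_mem hD')
      (by simp) rfl
  · refine ⟨1, 1, [2, 8, 12, 14, 18, 20, 24, 30], one_ne_zero, by simp, fun K _ _ => ?_⟩
    rw [Nat.gcd_one_left, pow_one]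
    exact OrderFinal.order_formula rfl chevE8 1 [2, 8, 12, 14, 18, 20, 24, 30] (by simp) hD'
      (CardCombAll.comb_of_mem hD') (by simp) rfl

theorem fac_list {p : ℕ} (f : ℕ → ℕ) : ∀ l : List ℕ, (∀ k ∈ l, f k ≠ 0) →
    (l.map f).prod ≠ 0 ∧ (l.map f).prod.factorization p = (l.map fun k => (f k).factorization p).sum
  | [], _ => by simp
  | a :: l, h => by
    obtain ⟨h1, h2⟩ := fac_list f l fun k hk => h k (List.mem_cons_of_mem a hk)
    have h3 := h a List.mem_cons_self
    refine ⟨?_, ?_⟩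
    · rw [List.map_cons, List.prod_cons]
      exact mul_ne_zero h3 h1
    · rw [List.map_cons, List.prod_cons, Nat.factorization_mul h3 h1, Finsupp.add_apply, h2, List.map_cons,
        List.sum_cons]

theorem fac_card {p g m n Q c : ℕ} {degs : List ℕ} (hQ : 1 < Q) (hpQ : ¬ p ∣ Q) (hc : c ≠ 0)
    (hg : g ≠ 0) (hdegs : ∀ k ∈ degs, k ≠ 0)
    (h : Nat.gcd g (Q - 1) ^ m * c = Q ^ n * (degs.map fun k => Q ^ k - 1).prod) :
    m * min (g.factorization p) ((Q - 1).factorization p) + c.factorization p =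
      (degs.map fun k => (Q ^ k - 1).factorization p).sum := by
  have hne : ∀ k ∈ degs, Q ^ k - 1 ≠ 0 := fun k hk => by
    have := Nat.one_lt_pow (hdegs k hk) hQ
    omega
  obtain ⟨h1, h2⟩ := fac_list (p := p) (fun k => Q ^ k - 1) degs hne
  have h3 := congrArg (fun x : ℕ => x.factorization p) h
  have hgcd : Nat.gcd g (Q - 1) ≠ 0 := (Nat.gcd_pos_of_pos_left _ (Nat.pos_of_ne_zero hg)).ne'
  rw [Nat.factorization_mul (pow_ne_zero _ hgcd) hc, Nat.factorization_mul (pow_ne_zero _ (by omega)) h1,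
    Finsupp.add_apply, Finsupp.add_apply, h2, Nat.factorization_pow, Nat.factorization_pow, Finsupp.smul_apply,
    Finsupp.smul_apply, Nat.factorization_eq_zero_of_not_dvd hpQ, smul_zero, zero_add,
    Nat.factorization_gcd hg (by omega), Finsupp.inf_apply, smul_eq_mul] at h3
  exact h3

/-- **the Chevalley groups** -/
theorem cent_chev {D : ChevalleyDatum} (hD : InList D) {p q : ℕ} [Fact p.Prime] (hq : q.Prime) (hpq : p ≠ q)
    {F : Type} [Field F] [Fintype F] (hpF : (p : F) ≠ 0) {σ : F ≃+* F} (hσ : ∃ k : ℕ, orderOf σ = q ^ k)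
    (hord : ¬ q ∣ orderOf ((Nat.card ↥(Fx σ) : ℕ) : ZMod p)) :
    CentSyl p (Subgroup.zpowers (fieldAut (stab_group D F) σ)) := by
  classical
  have hp : p.Prime := Fact.out
  obtain ⟨j, hj⟩ := hσ
  have : Fintype ↥(Fx σ) := Fintype.ofFinite _
  set Q₀ := Fintype.card ↥(Fx σ) with hQ₀
  have hcard : Fintype.card F = Q₀ ^ q ^ j := by
    have := card_Fx σ
    rwa [hj, Nat.card_eq_fintype_card, Nat.card_eq_fintype_card] at this
  have h1 : 1 < Q₀ := Fintype.one_lt_card
  have h1F : 1 < Fintype.card F := Fintype.one_lt_card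
  have hpF' : ¬ p ∣ Fintype.card F := by
    intro hdvd
    obtain ⟨r, f, hr, hchar, -, hf⟩ := exists_char F
    rw [hf] at hdvd
    have : p = r := (Nat.prime_dvd_prime_iff_eq hp hr).1 (hp.dvd_of_dvd_pow hdvd)
    subst this
    exact hpF (CharP.cast_eq_zero F p)
  have hp0 : ¬ p ∣ Q₀ := fun hdvd => hpF' (hcard ▸ dvd_pow hdvd (pow_ne_zero _ hq.ne_zero))
  rw [Nat.card_eq_fintype_card] at hord
  obtain ⟨g, m, degs, hg, hdegs, hform⟩ := exists_formula.{0} hD
  have hfin : Finite (GL D.Idx F) := inferInstance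
  have hfin0 : Finite (GL D.Idx ↥(Fx σ)) := inferInstance
  have e1 := fac_card h1F hpF' (Nat.card_pos (α := ↥(D.group F))).ne' hg hdegs (hform F)
  have e2 := fac_card h1 hp0 (Nat.card_pos (α := ↥(D.group ↥(Fx σ)))).ne' hg hdegs (hform ↥(Fx σ))
  have e3 : ∀ i, i ≠ 0 → (Fintype.card F ^ i - 1).factorization p = (Q₀ ^ i - 1).factorization p := fun i hi => by
    rw [hcard]
    exact fac_pow_sub_one hp hq hpq h1 hord j i hi
  have e4 : (degs.map fun k => (Fintype.card F ^ k - 1).factorization p) =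
      (degs.map fun k => (Q₀ ^ k - 1).factorization p) :=
    List.map_congr_left fun k hk => e3 k (hdegs k hk)
  have e5 := e3 1 one_ne_zero
  rw [pow_one, pow_one] at e5
  rw [e4, e5] at e1
  have e6 : (Nat.card ↥(D.group F)).factorization p = (Nat.card ↥(D.group ↥(Fx σ))).factorization p := by omega
  -- the embedding
  let φ : ↥(D.group ↥(Fx σ)) →* ↥(D.group F) :=
    { toFun := fun x => ⟨Matrix.GeneralLinearGroup.map (Fx σ).subtype x.1, map_group_le D (Fx σ).subtype ⟨x.1, x.2, rfl⟩⟩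
      map_one' := Subtype.ext (map_one _)
      map_mul' := fun x y => Subtype.ext (map_mul _ _ _) }
  refine centSyl_of_fixed φ ?_ e6 _ ?_
  · intro x y hxy
    exact Subtype.ext (map_injective (Fx σ).subtype (congrArg Subtype.val hxy))
  · intro x
    exact Subtype.ext (map_fixed σ x.1)

end Cfsg.Agent.H417.PQ
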